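import Cfsg.Agent.HNSub.C4500.FactsData
import Cfsg.Agent.HNSub.C4500.JustData
import Cfsg.Agent.HNSub.C4500.TableData
import Cfsg.Agent.CosetCert.CoxExtra
import Cfsg.Agent.CosetCert.Pack

/-! Generated: the certificate. -/

set_option maxRecDepth 100000

namespace Cfsg.Agent.HNSub.C4500

open Cfsg.Agent.CosetCert

noncomputable def data : Data where
  K := 3
  n := 4500
  M := 14654
  Nf := 30954
  nR := 11
  iv := fun x => if x = 1 then 2 else if x = 2 then 1 else x
  F := get48 factStore
  J := getVar justStore
  E := get48 edgeStore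
  L := get48 repStore
  P := get48 treeStore
  W := [
    [1, 1, 1, 1, 1, 1],
    [0, 0, 1, 0, 0, 2],
    [0, 2, 0, 1, 0, 2, 0, 1, 0, 2, 0, 1],
    [0, 1, 1, 0, 1, 1, 1, 0, 1, 1, 0, 1, 1, 1, 0, 1, 1, 0, 1, 1, 1],
    [0, 1, 0, 1, 0, 1, 0, 1, 0, 1, 0, 1, 0, 1, 0, 1],
    [0, 1, 0, 1, 1, 1, 0, 1, 0, 1, 1, 1, 0, 1, 0, 1, 1, 1, 0, 1, 0, 1, 1, 1],
    [0, 0],
    [],
    [0, 0],
    [1, 2],
    [2, 1],
    [1, 0, 2, 0],
    [0, 1, 0, 1, 1, 0, 2, 0]]
  PW := fun k => Nat.land (Nat.shiftRight 0x8c221044100000000000000000000000000008c220000000000000000000000000000004300000000000000000000000000000062000000000000000000000000000000210000000000000000000000000000000000000000000000000000000000000021001084110442104411084110442104410000000000001044110441104411044100000021082210442104420884208841000000000000000001046110461104610000000000000000000000000610882100000000000000000000000004210842 (Nat.mul 128 k)) 0xffffffffffffffffffffffffffffffff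
  powers := [
    ([1, 1, 1, 1, 1, 1], 1),
    ([0, 0, 1, 0, 0, 2], 1),
    ([0, 2, 0, 1, 0, 2, 0, 1, 0, 2, 0, 1], 1),
    ([0, 1, 1, 0, 1, 1, 1, 0, 1, 1, 0, 1, 1, 1, 0, 1, 1, 0, 1, 1, 1], 1),
    ([0, 1, 0, 1, 0, 1, 0, 1, 0, 1, 0, 1, 0, 1, 0, 1], 1),
    ([0, 1, 0, 1, 1, 1, 0, 1, 0, 1, 1, 1, 0, 1, 0, 1, 1, 1, 0, 1, 0, 1, 1, 1], 1),
    ([0, 0], 1),
    ([], 1),
    ([0, 0], 1),
    ([1, 2], 1),
    ([2, 1], 1)]

/-- The relators. -/
def relWords : List (List (Fin 2 × Bool)) := [
    [(1, true), (1, true), (1, true), (1, true), (1, true), (1, true)],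
    [(0, true), (0, true), (1, true), (0, true), (0, true), (1, false)],
    [(0, false), (1, false), (0, true), (1, true), (0, false), (1, false), (0, true), (1, true), (0, false), (1, false), (0, true), (1, true)],
    [(0, false), (1, true), (1, true), (0, true), (1, true), (1, true), (1, true), (0, false), (1, true), (1, true), (0, true), (1, true), (1, true), (1, true), (0, false), (1, true), (1, true), (0, true), (1, true), (1, true), (1, true)],
    [(0, true), (1, true), (0, true), (1, true), (0, true), (1, true), (0, true), (1, true), (0, true), (1, true), (0, true), (1, true), (0, true), (1, true), (0, true), (1, true)],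
    [(0, true), (1, true), (0, true), (1, true), (1, true), (1, true), (0, true), (1, true), (0, true), (1, true), (1, true), (1, true), (0, true), (1, true), (0, true), (1, true), (1, true), (1, true), (0, true), (1, true), (0, true), (1, true), (1, true), (1, true)],
    [(0, true), (0, true)]]

/-- The generators of the subgroup. -/
def subWords : List (FreeGroup (Fin 2)) := [FreeGroup.mk [(1, true), (0, true), (1, false), (0, true)], FreeGroup.mk [(0, true), (1, true), (0, true), (1, true), (1, true), (0, true), (1, false), (0, true)]]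

/-- The numbering of the generators. -/
def enc (b : Fin 2) : Nat := b.val

/-- The letter of a number. -/
def dec : Nat → Fin 2 × Bool
  | 0 => (0, true)
  | 1 => (1, true)
  | 2 => (1, false)
  | _ => (0, true)

end Cfsg.Agent.HNSub.C4500
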