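import Cfsg.Agent.HNSub.C4500.CheckLog
import Cfsg.Agent.HNSub.C4500.CheckTable
import Cfsg.Agent.HNSub.C4500.CheckRels
import Cfsg.Agent.CosetCert.Group

/-! Generated: the index. -/

set_option maxRecDepth 100000

namespace Cfsg.Agent.HNSub.C4500

open Cfsg.Agent.CosetCert

theorem valid : data.Valid where
  n_pos := by decide +kernel
  root := by decide +kernel
  log := log_ok
  coset := coset_ok
  rels := rels_ok
  powers_eq := by decide +kernel
  pw := by decide +kernel
  letters := by decide +kernel
  K_small := by decide +kernel
  nR_le := by decide +kernel
  subs := by decide +kernel
  iv_iv := by decide +kernel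
  iv_big := fun x hx => by
    change 3 ≤ x at hx
    show (if x = 1 then 2 else if x = 2 then 1 else x) = x
    split_ifs <;> omega

theorem spells : Data.Spells data (wordRels relWords) subWords enc dec relWords := by
  apply spells_words_extra data
  · decide +kernel
  · decide +kernel
  · show ∀ x, x < 3 → _
    intro x hx
    interval_cases x <;> first
      | exact Or.inl (by decide +kernel)
      | exact Or.inr (by decide +kernel)
  · decide +kernel
  · decide +kernel

theorem index_val : (Data.sub (wordRels relWords) subWords).index = 4500 :=
  Data.index_eq valid spells

end Cfsg.Agent.HNSub.C4500
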